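import Groth.Agent.L28.Ph.Extend
import Groth.Agent.L28.VTop.Cover

/-!
# Standard ph coverings compose; ph coverings are stable under base change and composition
-/

universe w w' u

open CategoryTheory CategoryTheory.Limits AlgebraicGeometry

namespace Groth.L28.Ph

variable {T U U' : Scheme.{u}}

open Groth.L28.VTop (openFamily)

/-- A family through which a proper surjection onto an affine factors locally is refined by a standard
ph covering. -/
theorem exists_isStandardPh_of_local [IsAffine T] {P : Scheme.{u}} (f : P ⟶ T) [IsProper f]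
    [Surjective f] (E : PreZeroHypercover.{w} T)
    (h : ∀ x : P, ∃ W : P.Opens, IsAffineOpen W ∧ x ∈ W ∧
      ∃ (i : E.I₀) (h : (W : Scheme.{u}) ⟶ E.X i), h ≫ E.f i = W.ι ≫ f) :
    ∃ F : PreZeroHypercover.{0} T, HTop.IsStandardPh F ∧ Nonempty (F.Hom E) := by
  choose W hW hxW i k hk using h
  haveI : CompactSpace P := QuasiCompact.compactSpace_of_compactSpace f
  obtain ⟨t, ht⟩ := isCompact_univ.elim_finite_subcover (fun x => (W x : Set P))
    (fun x => (W x).isOpen) (fun x _ => Set.mem_iUnion.2 ⟨x, hxW x⟩)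
  let e := t.equivFin.symm
  let F : PreZeroHypercover.{0} T :=
    { I₀ := Fin t.card
      X := fun a => W (e a)
      f := fun a => (W (e a)).ι ≫ f }
  refine ⟨F, ⟨‹_›, inferInstanceAs (Finite (Fin t.card)), fun a => hW (e a),
    P, f, fun a => (W (e a)).ι, ‹_›, ‹_›, fun a => inferInstance, fun a => rfl, fun x => ?_⟩,
    ⟨{ s₀ := fun a => i (e a), h₀ := fun a => k (e a), w₀ := fun a => hk (e a) }⟩⟩
  obtain ⟨y, hy, hxy⟩ := Set.mem_iUnion₂.1 (ht (Set.mem_univ x))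
  refine ⟨t.equivFin ⟨y, hy⟩, ?_⟩
  rw [Scheme.Opens.range_ι]
  simpa [e] using hxy

/-- every open covering of an affine scheme is refined by a standard ph covering -/
theorem exists_isStandardPh_of_openCover [IsAffine T] (𝒰 : T.OpenCover) :
    ∃ F : PreZeroHypercover.{0} T, HTop.IsStandardPh F ∧ Nonempty (F.Hom 𝒰.toPreZeroHypercover) := by
  refine exists_isStandardPh_of_local (𝟙 T) 𝒰.toPreZeroHypercover fun x => ?_
  obtain ⟨i, y, hy⟩ := 𝒰.exists_eq x
  obtain ⟨W, hW, hxW, hle⟩ := exists_isAffineOpen_mem_and_subset (X := T) (x := x)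
    (U := (𝒰.f i).opensRange) ⟨y, hy⟩
  refine ⟨W, hW, hxW, i, IsOpenImmersion.lift (𝒰.f i) W.ι (by rw [Scheme.Opens.range_ι]; exact hle), ?_⟩
  rw [Category.comp_id]
  exact IsOpenImmersion.lift_fac _ _ _

/-- A standard ph covering of a standard ph covering is refined by a standard ph covering. -/
theorem exists_isStandardPh_bind {E : PreZeroHypercover.{w} T} (hE : HTop.IsStandardPh E)
    {F : ∀ j, PreZeroHypercover.{w'} (E.X j)} (hF : ∀ j, HTop.IsStandardPh (F j)) :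
    ∃ F' : PreZeroHypercover.{0} T, HTop.IsStandardPh F' ∧ Nonempty (F'.Hom (E.bind F)) := by
  haveI := hE.isAffine
  haveI := hE.finite_index
  haveI := hE.isAffine_obj
  obtain ⟨U, f, ι, hf, hfs, hι, hcomm, hcov⟩ := hE.exists_proper
  haveI : CompactSpace U := QuasiCompact.compactSpace_of_compactSpace f
  haveI : QuasiSeparatedSpace U := quasiSeparatedSpace_of_quasiSeparated f
  choose W π κ hπ hπs hκ hκc hκcov using fun j => (hF j).exists_proper
  choose Y X' q e r hq hqs he heq hrange using fun j : E.I₀ =>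
    haveI := hι j
    haveI := hπ j
    haveI := hπs j
    exists_ext (ι j) (π j)
  let ε := (Finite.equivFin E.I₀).symm
  obtain ⟨P, p, s, hp, hps, hs⟩ := exists_common (fun a => Y (ε a)) (fun a => q (ε a))
    (fun a => hq _) (fun a => hqs _)
  refine exists_isStandardPh_of_local (p ≫ f) _ fun x => ?_
  obtain ⟨j, hj⟩ := hcov (p x)
  obtain ⟨a, rfl⟩ := ε.surjective j
  haveI := he (ε a)
  obtain ⟨x', hx'⟩ := hrange (ε a) (s a x)
    (by rw [← Scheme.Hom.comp_apply, hs a]; exact hj)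
  obtain ⟨k, hk⟩ := hκcov (ε a) (r (ε a) x')
  haveI := hκ (ε a) k
  let O : P.Opens := s a ⁻¹ᵁ (e (ε a) ''ᵁ (r (ε a) ⁻¹ᵁ (κ (ε a) k).opensRange))
  obtain ⟨V, hV, hxV, hle⟩ := exists_isAffineOpen_mem_and_subset (X := P) (x := x) (U := O)
    (show s a x ∈ (e (ε a)) '' _ from ⟨x', hk, hx'⟩)
  let g₁ : (V : Scheme.{u}) ⟶ X' (ε a) := IsOpenImmersion.lift (e (ε a)) (V.ι ≫ s a) (by
    rintro _ ⟨v, rfl⟩
    obtain ⟨z, -, hz⟩ := hle v.2
    exact ⟨z, hz⟩)
  have hg₁ : g₁ ≫ e (ε a) = V.ι ≫ s a := IsOpenImmersion.lift_fac _ _ _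
  let g₂ : (V : Scheme.{u}) ⟶ (F (ε a)).X k := IsOpenImmersion.lift (κ (ε a) k) (g₁ ≫ r (ε a)) (by
    rintro _ ⟨v, rfl⟩
    obtain ⟨z, hz₁, hz⟩ := hle v.2
    have : g₁ v = z := by
      apply (e (ε a)).isOpenEmbedding.injective
      rw [← Scheme.Hom.comp_apply, hg₁]
      exact hz.symm
    rw [Scheme.Hom.comp_apply, this]
    exact hz₁)
  have hg₂ : g₂ ≫ κ (ε a) k = g₁ ≫ r (ε a) := IsOpenImmersion.lift_fac _ _ _
  refine ⟨V, hV, hxV, ⟨ε a, k⟩, g₂, ?_⟩
  show g₂ ≫ (F (ε a)).f k ≫ E.f (ε a) = V.ι ≫ p ≫ f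
  calc g₂ ≫ (F (ε a)).f k ≫ E.f (ε a) = (g₂ ≫ κ (ε a) k) ≫ π (ε a) ≫ E.f (ε a) := by
        rw [← hκc (ε a) k]; simp only [Category.assoc]
    _ = g₁ ≫ (r (ε a) ≫ π (ε a) ≫ ι (ε a)) ≫ f := by
        rw [hg₂, ← hcomm (ε a)]; simp only [Category.assoc]
    _ = (g₁ ≫ e (ε a)) ≫ q (ε a) ≫ f := by rw [← heq (ε a)]; simp only [Category.assoc]
    _ = V.ι ≫ (s a ≫ q (ε a)) ≫ f := by rw [hg₁]; simp only [Category.assoc]
    _ = V.ι ≫ p ≫ f := by rw [hs a]

/-- the family `E` can be refined by a standard ph covering after pullback by `g` -/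
def Refinable (g : U ⟶ T) (E : PreZeroHypercover.{w} T) : Prop :=
  ∃ F : PreZeroHypercover.{0} U, HTop.IsStandardPh F ∧ HTop.RefinesOver g F E

theorem Refinable.comp [IsAffine U'] {g : U ⟶ T} {E : PreZeroHypercover.{w} T} (h : Refinable g E)
    (k : U' ⟶ U) : Refinable (k ≫ g) E := by
  obtain ⟨F, hF, href⟩ := h
  refine ⟨F.pullback₁ k, Groth.L28.VTop.isStandardPh_pullback₁ k hF, fun (j : F.I₀) => ?_⟩
  obtain ⟨i, h, hh⟩ := href j
  refine ⟨i, pullback.snd k (F.f j) ≫ h, ?_⟩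
  have key : (pullback.snd k (F.f j) ≫ h) ≫ E.f i = pullback.fst k (F.f j) ≫ k ≫ g := by
    rw [Category.assoc, hh, ← Category.assoc, ← pullback.condition, Category.assoc]
  exact key

/-- refinements compose -/
theorem refinesOver_of_bind {g : U ⟶ T} {E : PreZeroHypercover.{w} T} {G : PreZeroHypercover.{w'} U}
    {H : ∀ j, PreZeroHypercover.{w'} (G.X j)} (hH : ∀ j, HTop.RefinesOver (G.f j ≫ g) (H j) E)
    {F' : PreZeroHypercover.{0} U} (φ : F'.Hom (G.bind H)) : HTop.RefinesOver g F' E := fun a =>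
  have aux : ∀ (b : Σ j, (H j).I₀) (k : F'.X a ⟶ (H b.1).X b.2),
      k ≫ (H b.1).f b.2 ≫ G.f b.1 = F'.f a →
      ∃ (i : E.I₀) (h : F'.X a ⟶ E.X i), h ≫ E.f i = F'.f a ≫ g := by
    rintro ⟨j, l⟩ k hk
    obtain ⟨m, h, hh⟩ := hH j l
    refine ⟨m, k ≫ h, ?_⟩
    rw [← hk, Category.assoc, hh]
    simp only [Category.assoc]
  aux (φ.s₀ a) (φ.h₀ a) (φ.w₀ a)

theorem refinable_of_local [IsAffine U] (g : U ⟶ T) (E : PreZeroHypercover.{w} T)
    (h : ∀ x : U, ∃ W : U.Opens, IsAffineOpen W ∧ x ∈ W ∧ Refinable (W.ι ≫ g) E) :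
    Refinable g E := by
  choose W hW hxW hF using h
  obtain ⟨t, ht⟩ := isCompact_univ.elim_finite_subcover (fun x => (W x : Set U))
    (fun x => (W x).isOpen) (fun x _ => Set.mem_iUnion.2 ⟨x, hxW x⟩)
  let e := t.equivFin.symm
  choose F hF href using hF
  have hopen : HTop.IsStandardPh (openFamily fun i => W (e i)) :=
    ⟨‹_›, inferInstanceAs (Finite (Fin t.card)), fun i => hW _, U, 𝟙 U,
      fun (i : Fin t.card) => (W (e i)).ι,
      inferInstance, inferInstance, fun (i : Fin t.card) => show IsOpenImmersion (W (e i)).ι from inferInstance,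
      fun i => Category.comp_id _, fun x => by
        obtain ⟨y, hy, hxy⟩ := Set.mem_iUnion₂.1 (ht (Set.mem_univ x))
        refine ⟨t.equivFin ⟨y, hy⟩, ⟨⟨x, ?_⟩, rfl⟩⟩
        simpa [e] using hxy⟩
  obtain ⟨F', hF', ⟨φ⟩⟩ := exists_isStandardPh_bind hopen fun (i : Fin t.card) => hF (e i)
  exact ⟨F', hF', refinesOver_of_bind (fun (i : Fin t.card) => href (e i)) φ⟩

theorem refinable_of_isPhCover [IsAffine U] {E : PreZeroHypercover.{w} T} (hE : HTop.IsPhCover E)
    (g : U ⟶ T) : Refinable g E := by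
  refine refinable_of_local g E fun x => ?_
  obtain ⟨V, hV, hxV, -⟩ := exists_isAffineOpen_mem_and_subset (X := T) (x := g x) (U := ⊤) trivial
  obtain ⟨W, hW, hxW, hWV⟩ := exists_isAffineOpen_mem_and_subset (X := U) (x := x) (U := g ⁻¹ᵁ V) hxV
  haveI : IsAffine (W : Scheme.{u}) := hW
  obtain ⟨F, hF⟩ := hE.2 ⟨V, hV⟩
  let k : (W : Scheme.{u}) ⟶ (V : Scheme.{u}) := g.resLE V W hWV
  refine ⟨W, hW, hxW, ?_⟩
  rw [show W.ι ≫ g = k ≫ V.ι from (g.resLE_comp_ι hWV).symm]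
  exact Refinable.comp (show Refinable V.ι E from ⟨F, hF⟩) k

theorem isPhCover_pullback₁ {T' : Scheme.{u}} (g : T' ⟶ T) {E : PreZeroHypercover.{w} T}
    (hE : HTop.IsPhCover E) : HTop.IsPhCover (E.pullback₁ g) := by
  refine ⟨fun i => ?_, fun V => ?_⟩
  · haveI := hE.1 i
    show LocallyOfFiniteType (pullback.fst g (E.f i))
    infer_instance
  haveI : IsAffine ((V : T'.Opens) : Scheme.{u}) := V.2
  obtain ⟨F, hF, href⟩ := refinable_of_isPhCover hE ((V : T'.Opens).ι ≫ g)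
  refine ⟨F, hF, fun j => ?_⟩
  obtain ⟨i, h, hh⟩ := href j
  exact ⟨i, pullback.lift (F.f j ≫ (V : T'.Opens).ι) h (by rw [hh, Category.assoc]),
    pullback.lift_fst _ _ _⟩

theorem isPhCover_bind {E : PreZeroHypercover.{w} T} (hE : HTop.IsPhCover E)
    {F : ∀ i, PreZeroHypercover.{w'} (E.X i)} (hF : ∀ i, HTop.IsPhCover (F i)) :
    HTop.IsPhCover (E.bind F) := by
  refine ⟨fun ij => ?_, fun V => ?_⟩
  · haveI := hE.1 ij.1
    haveI := (hF ij.1).1 ij.2
    show LocallyOfFiniteType ((F ij.1).f ij.2 ≫ E.f ij.1)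
    infer_instance
  obtain ⟨G, hG, href⟩ := hE.2 V
  choose i h hh using href
  have key : ∀ j, Refinable (h j) (F (i j)) := fun j =>
    haveI := hG.isAffine_obj j
    refinable_of_isPhCover (hF (i j)) (h j)
  choose H hH hHref using key
  obtain ⟨G', hG', ⟨φ⟩⟩ := exists_isStandardPh_bind hG hH
  refine ⟨G', hG', refinesOver_of_bind (E := E.bind F) (fun j l => ?_) φ⟩
  obtain ⟨m, k, hk⟩ := hHref j l
  refine ⟨⟨i j, m⟩, k, ?_⟩
  show k ≫ (F (i j)).f m ≫ E.f (i j) = _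
  rw [← Category.assoc, hk, Category.assoc, hh]

end Groth.L28.Ph
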