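import Groth.Agent.S7409
import Groth.Agent.L02.An.Fib
import Groth.Agent.L28.VTop.Proper
import Mathlib.AlgebraicGeometry.Morphisms.Immersion
import Mathlib.AlgebraicGeometry.Morphisms.Proper

/-!
# Extending a proper surjection along an open immersion, common refinements of proper surjections
-/

universe u

open CategoryTheory CategoryTheory.Limits AlgebraicGeometry

namespace Groth.L28.Ph

open CohB1 (ProjSpaceOver)
open CohB1.ProjSpaceOver (toBase)

/-- A proper surjection onto an affine open piece extends, after a modification, to a proper surjection. -/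
theorem exists_ext {A U W : Scheme.{u}} (ι : A ⟶ U) [IsOpenImmersion ι] [CompactSpace U]
    [QuasiSeparatedSpace U] [IsAffine A] (π : W ⟶ A) [IsProper π] [Surjective π] :
    ∃ (Y X' : Scheme.{u}) (q : Y ⟶ U) (e : X' ⟶ Y) (r : X' ⟶ W),
      IsProper q ∧ Surjective q ∧ IsOpenImmersion e ∧ e ≫ q = r ≫ π ≫ ι ∧
      ∀ y : Y, q y ∈ Set.range ι → y ∈ Set.range e := by
  haveI : QuasiSeparatedSpace A := inferInstance
  haveI : QuasiCompact ι := inferInstance
  obtain ⟨n, X', π', j, hj, hjb, hπ', hπs⟩ := Groth.Agent.S7409.result π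
  obtain ⟨m, hm⟩ := Groth.L02.An.isPullback_projSpaceOver ι n
  haveI : IsOpenImmersion m := MorphismProperty.of_isPullback hm.flip ‹IsOpenImmersion ι›
  haveI : QuasiCompact m := MorphismProperty.of_isPullback hm.flip ‹QuasiCompact ι›
  haveI : IsProper (j ≫ toBase n A) := by rw [hjb]; infer_instance
  haveI : IsProper j := IsProper.of_comp j (toBase n A)
  let J : X' ⟶ ProjSpaceOver n U := j ≫ m
  let zU : J.image ⟶ U := J.imageι ≫ toBase n U
  haveI : IsProper zU := inferInstance
  let C : TopologicalSpace.Closeds U := ι.opensRange.compl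
  let I := Scheme.IdealSheafData.vanishingIdeal C
  haveI : IsProper zU := inferInstance
  haveI : IsProper I.subschemeι := inferInstance
  haveI hq : IsProper (coprod.desc zU I.subschemeι) := Groth.L28.VTop.isProper_coprodDesc _ _
  let q := coprod.desc zU I.subschemeι
  let e : X' ⟶ J.image ⨿ I.subscheme := J.toImage ≫ coprod.inl
  have hI : Set.range I.subschemeι = (Set.range ι)ᶜ := by
    rw [Scheme.IdealSheafData.range_subschemeι, Scheme.IdealSheafData.coe_support_vanishingIdeal]
    rfl
  have he : e ≫ q = π' ≫ π ≫ ι := by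
    calc e ≫ q = J.toImage ≫ zU := by simp only [e, q, Category.assoc, coprod.inl_desc]
      _ = (J.toImage ≫ J.imageι) ≫ toBase n U := (Category.assoc _ _ _).symm
      _ = j ≫ m ≫ toBase n U := by rw [Scheme.Hom.toImage_imageι]; exact Category.assoc _ _ _
      _ = (j ≫ toBase n A) ≫ ι := by rw [hm.w, Category.assoc]
      _ = π' ≫ π ≫ ι := by rw [hjb, Category.assoc]
  refine ⟨_, X', q, e, π', hq, ⟨fun x => ?_⟩, inferInstance, he, fun y hy => ?_⟩
  · by_cases hx : x ∈ Set.range ι
    · obtain ⟨a, rfl⟩ := hx
      obtain ⟨w, rfl⟩ := π.surjective a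
      obtain ⟨z, rfl⟩ := π'.surjective w
      exact ⟨e z, by rw [← Scheme.Hom.comp_apply, he]; rfl⟩
    · obtain ⟨d, rfl⟩ := (hI.ge hx : x ∈ Set.range I.subschemeι)
      exact ⟨(coprod.inr : _ ⟶ J.image ⨿ I.subscheme) d,
        by rw [← Scheme.Hom.comp_apply, coprod.inr_desc]⟩
  · obtain ⟨z | d, rfl⟩ := (AlgebraicGeometry.coprodMk J.image I.subscheme).surjective y
    · rw [AlgebraicGeometry.coprodMk_inl] at hy ⊢
      rw [← Scheme.Hom.comp_apply, coprod.inl_desc] at hy
      obtain ⟨a, ha⟩ := hy
      obtain ⟨p, hp, -⟩ := Scheme.exists_preimage_of_isPullback hm (J.imageι z) a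
        (by rw [ha]; rfl)
      have hz : J.imageι z ∈ closure (Set.range J) := by
        have : J.imageι z ∈ Set.range J.imageι := ⟨z, rfl⟩
        rw [Scheme.IdealSheafData.range_subschemeι, Scheme.Hom.support_ker] at this
        exact this
      have hR : Set.range J = m '' Set.range j := by rw [← Set.range_comp]; rfl
      have hmo : IsOpenMap m := m.isOpenEmbedding.isOpenMap
      have : p ∈ Set.range j := by
        have h1 : p ∈ m ⁻¹' closure (m '' Set.range j) := by
          rw [← hR]; exact (Eq.symm hp ▸ hz : m p ∈ closure (Set.range J))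
        rw [hmo.preimage_closure_eq_closure_preimage m.continuous,
          Set.preimage_image_eq _ m.isOpenEmbedding.injective,
          (j.isClosedMap.isClosed_range).closure_eq] at h1
        exact h1
      obtain ⟨x', hx'⟩ := this
      have : J.toImage x' = z := by
        apply J.imageι.isClosedEmbedding.injective
        rw [← Scheme.Hom.comp_apply, Scheme.Hom.toImage_imageι, ← hp, ← hx']
        rfl
      exact ⟨x', by rw [← this]; rfl⟩
    · rw [AlgebraicGeometry.coprodMk_inr] at hy
      rw [← Scheme.Hom.comp_apply, coprod.inr_desc] at hy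
      exact absurd hy (hI.le ⟨d, rfl⟩)

/-- finitely many proper surjections onto `U` are dominated by one -/
theorem exists_common {U : Scheme.{u}} : ∀ {k : ℕ} (Y : Fin k → Scheme.{u}) (q : ∀ i, Y i ⟶ U),
    (∀ i, IsProper (q i)) → (∀ i, Surjective (q i)) →
    ∃ (P : Scheme.{u}) (p : P ⟶ U) (s : ∀ i, P ⟶ Y i),
      IsProper p ∧ Surjective p ∧ ∀ i, s i ≫ q i = p
  | 0, _, _, _, _ => ⟨U, 𝟙 U, fun i => i.elim0, inferInstance, inferInstance, fun i => i.elim0⟩
  | _ + 1, Y, q, hp, hs => by
    obtain ⟨P, p, s, hpp, hps, hsq⟩ :=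
      exists_common (fun i => Y i.succ) (fun i => q i.succ) (fun i => hp _) (fun i => hs _)
    haveI := hp 0
    haveI := hs 0
    refine ⟨pullback p (q 0), pullback.fst p (q 0) ≫ p,
      Fin.cases (pullback.snd p (q 0)) (fun i => pullback.fst p (q 0) ≫ s i),
      inferInstance, inferInstance, fun i => ?_⟩
    refine Fin.cases ?_ (fun i => ?_) i
    · exact pullback.condition.symm
    · simp only [Fin.cases_succ, Category.assoc, hsq i]

end Groth.L28.Ph
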